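import Mathlib
import Groth.Agent.Lib.Lead.FBC1
import Groth.Agent.Lib.Helper5.TorAmp.FlatLin

set_option linter.style.haveILetI false
set_option linter.unusedVariables false
set_option linter.unusedSectionVars false
set_option autoImplicit false
set_option backward.isDefEq.respectTransparency.types false
set_option backward.isDefEq.respectTransparency false
set_option synthInstance.maxHeartbeats 400000
set_option maxHeartbeats 1600000

universe u

/-! helper7: base change of the kernel of a left exact sequence with flat cokernel along semilinear maps; tens of finite products; flat cokernel transfer (toward degree-zero cohomology and base change) -/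

open TensorProduct
open Groth.Agent.Lead.FBC

namespace Groth.Agent.Helper7.BC0

section Alg

variable {A B : Type u} [CommRing A] [CommRing B] [Algebra A B]

section Basic
variable {M N : Type u} [AddCommGroup M] [Module A M] [AddCommGroup N] [Module B N] {l : M → N}

theorem SemiLin.map_zero' (hl : SemiLin (A := A) (B := B) l) : l 0 = 0 := by
  have := hl.add 0 0
  rw [add_zero] at this
  exact left_eq_add.1 this

theorem SemiLin.map_sub' (hl : SemiLin (A := A) (B := B) l) (x y : M) : l (x - y) = l x - l y := by
  have := hl.add (x - y) y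
  rw [sub_add_cancel] at this
  exact eq_sub_of_add_eq this.symm

end Basic

section Pi
variable {ι : Type u} {Mi Ni : ι → Type u} [∀ i, AddCommGroup (Mi i)] [∀ i, Module A (Mi i)]
  [∀ i, AddCommGroup (Ni i)] [∀ i, Module B (Ni i)] {li : ∀ i, Mi i → Ni i}

theorem semiLin_pi (hli : ∀ i, SemiLin (A := A) (B := B) (li i)) :
    SemiLin (A := A) (B := B) (fun (y : ∀ i, Mi i) (i : ι) => li i (y i)) :=
  ⟨fun x y => funext fun i => (hli i).add (x i) (y i),
    fun a m => funext fun i => (hli i).smul a (m i)⟩

theorem tens_pi_apply [Fintype ι] [DecidableEq ι] (hli : ∀ i, SemiLin (A := A) (B := B) (li i))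
    (x : B ⊗[A] (∀ i, Mi i)) (i : ι) :
    tens (semiLin_pi hli) x i = tens (hli i) (TensorProduct.piRight A B B Mi x i) := by
  induction x using TensorProduct.induction_on with
  | zero => rw [map_zero, map_zero, Pi.zero_apply, Pi.zero_apply, map_zero]
  | tmul b y =>
    rw [TensorProduct.piRight_apply, TensorProduct.piRightHom_tmul]
    rfl
  | add x y hx hy => rw [map_add, Pi.add_apply, hx, hy, map_add, Pi.add_apply, map_add]

theorem tens_pi_bijective [Finite ι] (hli : ∀ i, SemiLin (A := A) (B := B) (li i))
    (hb : ∀ i, Function.Bijective (tens (hli i))) :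
    Function.Bijective (tens (semiLin_pi hli)) := by
  classical
  letI := Fintype.ofFinite ι
  have h : (tens (semiLin_pi hli) : B ⊗[A] (∀ i, Mi i) → ∀ i, Ni i) =
      (Pi.map fun i => (tens (hli i) : B ⊗[A] Mi i → Ni i)) ∘
        (TensorProduct.piRight A B B Mi) := by
    funext x
    funext i
    exact tens_pi_apply hli x i
  rw [h]
  exact (Function.Bijective.piMap hb).comp (TensorProduct.piRight A B B Mi).bijective

end Pi

section Exact

variable {M C0 C1 W : Type u} [AddCommGroup M] [Module A M] [AddCommGroup C0] [Module A C0]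
  [AddCommGroup C1] [Module A C1] [AddCommGroup W] [Module A W]
  {N D0 D1 : Type u} [AddCommGroup N] [Module B N] [AddCommGroup D0] [Module B D0]
  [AddCommGroup D1] [Module B D1]

/-- **base change of a kernel**: for a left exact sequence `0 → M → C0 → C1` of `A`-modules with
`C0`, `C1` and the cokernel of `C0 → C1` flat, a left exact sequence `0 → N → D0 → D1` of
`B`-modules and compatible semilinear maps which exhibit `D0` as the base change of `C0` and
embed the base change of `C1` into `D1`, the module `N` is the base change of `M`. -/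
theorem tens_bijective_of_exact
    [Module.Flat A C0] [Module.Flat A C1] [Module.Flat A W]
    (a : M →ₗ[A] C0) (d : C0 →ₗ[A] C1) (π : C1 →ₗ[A] W)
    (ha : Function.Injective a) (had : Function.Exact a d) (hdπ : Function.Exact d π)
    (hπ : Function.Surjective π)
    (c : N →ₗ[B] D0) (e : D0 →ₗ[B] D1) (hc : Function.Injective c) (hce : Function.Exact c e)
    {l : M → N} {L0 : C0 → D0} {L1 : C1 → D1}
    (hl : SemiLin (A := A) (B := B) l) (hL0 : SemiLin (A := A) (B := B) L0)
    (hL1 : SemiLin (A := A) (B := B) L1)
    (h1 : ∀ m, c (l m) = L0 (a m)) (h2 : ∀ y, e (L0 y) = L1 (d y))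
    (hb0 : Function.Bijective (tens hL0)) (hi1 : Function.Injective (tens hL1)) :
    Function.Bijective (tens hl) := by
  have hmem : ∀ y, d y ∈ LinearMap.ker π := fun y => by
    rw [LinearMap.mem_ker]
    exact (hdπ (d y)).2 ⟨y, rfl⟩
  let σ : C0 →ₗ[A] LinearMap.ker π := d.codRestrict (LinearMap.ker π) hmem
  have hσ : Function.Surjective σ := by
    rintro ⟨z, hz⟩
    obtain ⟨y, rfl⟩ := (hdπ z).1 (LinearMap.mem_ker.1 hz)
    exact ⟨y, rfl⟩
  haveI : Module.Flat A (LinearMap.ker π) := Groth.Agent.Helper5.FlatAcyc.flat_ker π hπ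
  have hfac : (LinearMap.ker π).subtype ∘ₗ σ = d := LinearMap.subtype_comp_codRestrict _ _ _
  have haσ : Function.Exact a σ := by
    intro y
    constructor
    · intro hy
      have h0 : d y = 0 := congrArg Subtype.val hy
      exact (had y).1 h0
    · rintro ⟨m, rfl⟩
      apply Subtype.ext
      exact (had (a m)).2 ⟨m, rfl⟩
  have hinjK : Function.Injective ((LinearMap.ker π).subtype.lTensor B) := by
    rw [LinearMap.lTensor_inj_iff_rTensor_inj]
    exact Groth.Agent.Helper5.FlatAcyc.rTensor_subtype_injective π hπ B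
  have hinja : Function.Injective (a.lTensor B) := by
    have hmem' : ∀ m, a m ∈ LinearMap.ker σ := fun m => (haσ (a m)).2 ⟨m, rfl⟩
    let a' : M →ₗ[A] LinearMap.ker σ := a.codRestrict _ hmem'
    have ha' : Function.Bijective a' := by
      constructor
      · intro x y hxy
        exact ha (congrArg Subtype.val hxy)
      · rintro ⟨y, hy⟩
        obtain ⟨m, rfl⟩ := (haσ y).1 hy
        exact ⟨m, rfl⟩
    have h3 : Function.Injective ((LinearMap.ker σ).subtype.lTensor B) := by
      rw [LinearMap.lTensor_inj_iff_rTensor_inj]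
      exact Groth.Agent.Helper5.FlatAcyc.rTensor_subtype_injective σ hσ B
    have h4 : a.lTensor B = ((LinearMap.ker σ).subtype.lTensor B) ∘ₗ (a'.lTensor B) := by
      rw [← LinearMap.lTensor_comp]
      rfl
    let a'' : LinearMap.ker σ →ₗ[A] M := (LinearEquiv.ofBijective a' ha').symm.toLinearMap
    have hcomp : a'' ∘ₗ a' = LinearMap.id :=
      LinearMap.ext fun m => (LinearEquiv.ofBijective a' ha').symm_apply_apply m
    have h5 : Function.Injective (a'.lTensor B) := by
      apply Function.LeftInverse.injective (g := a''.lTensor B)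
      intro x
      rw [← LinearMap.comp_apply, ← LinearMap.lTensor_comp, hcomp, LinearMap.lTensor_id,
        LinearMap.id_apply]
    rw [h4]
    exact h3.comp h5
  have hT0 : ∀ x : B ⊗[A] M, tens hL0 (a.lTensor B x) = c (tens hl x) :=
    fun x => tens_lTensor hl hL0 a c h1 x
  have hT1 : ∀ z : B ⊗[A] C0, tens hL1 (d.lTensor B z) = e (tens hL0 z) :=
    fun z => tens_lTensor hL0 hL1 d e h2 z
  have hex : Function.Exact (a.lTensor B) (σ.lTensor B) := lTensor_exact B haσ hσ
  constructor
  · rw [injective_iff_map_eq_zero]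
    intro x hx
    apply hinja
    apply hb0.1
    simp only [hT0, hx, map_zero]
  · intro n
    obtain ⟨z, hz⟩ := hb0.2 (c n)
    have hdz : d.lTensor B z = 0 := by
      apply hi1
      rw [hT1, hz, map_zero]
      exact (hce (c n)).2 ⟨n, rfl⟩
    have hσz : σ.lTensor B z = 0 := by
      apply hinjK
      rw [map_zero, ← LinearMap.comp_apply, ← LinearMap.lTensor_comp, hfac]
      exact hdz
    obtain ⟨x, rfl⟩ := (hex z).1 hσz
    refine ⟨x, hc ?_⟩
    rw [← hT0, hz]

end Exact

section Quot

variable {C0 C1 C0' C1' : Type u} [AddCommGroup C0] [Module A C0] [AddCommGroup C1] [Module A C1]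
  [AddCommGroup C0'] [Module A C0'] [AddCommGroup C1'] [Module A C1']

/-- flatness of the cokernel is invariant under isomorphisms of the map -/
theorem flat_quot_range_of_equiv (e0 : C0 ≃ₗ[A] C0') (e1 : C1 ≃ₗ[A] C1')
    (d : C0 →ₗ[A] C1) (d' : C0' →ₗ[A] C1') (hcomm : ∀ y, e1 (d y) = d' (e0 y))
    (h : Module.Flat A (C1 ⧸ LinearMap.range d)) : Module.Flat A (C1' ⧸ LinearMap.range d') := by
  have hmap : (LinearMap.range d).map (e1 : C1 →ₗ[A] C1') = LinearMap.range d' := by
    ext z
    constructor
    · rintro ⟨_, ⟨y, rfl⟩, rfl⟩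
      exact ⟨e0 y, (hcomm y).symm⟩
    · rintro ⟨y', rfl⟩
      refine ⟨d (e0.symm y'), ⟨_, rfl⟩, ?_⟩
      change e1 (d (e0.symm y')) = _
      rw [hcomm, LinearEquiv.apply_symm_apply]
  exact Module.Flat.of_linearEquiv (Submodule.Quotient.equiv _ _ e1 hmap).symm

end Quot

end Alg

end Groth.Agent.Helper7.BC0
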