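import Mathlib
import Groth.Agent.Lib.Helper7.BC0.Alg
import Groth.Agent.Lib.Lead.FBC2
import Groth.Prelude.Def_CohBC2

set_option linter.style.haveILetI false
set_option linter.unusedVariables false
set_option linter.unusedSectionVars false
set_option autoImplicit false
set_option backward.isDefEq.respectTransparency.types false
set_option backward.isDefEq.respectTransparency false
set_option synthInstance.maxHeartbeats 400000
set_option maxHeartbeats 1600000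

universe u

/-! helper7: gluing the base change comparison over a finite two-level affine cover with flat Cech cokernel; the degree-zero base change map is an isomorphism when the comparison maps over small affine opens are bijective -/

open CategoryTheory AlgebraicGeometry TopologicalSpace TensorProduct Opposite
open Scheme.Modules
open Groth.Agent.Lead.BCU Groth.Agent.Lead.FBC

namespace Groth.Agent.Helper7.BC0

section Sheaf

variable {Z : Scheme.{u}} (G : Z.Modules) {I K : Type u} (O : Z.Opens) (W : I → Z.Opens)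
  (T : K → Z.Opens) (π₁ π₂ : K → I) (hW : ∀ i, W i ≤ O)
  (hT₁ : ∀ k, T k ≤ W (π₁ k)) (hT₂ : ∀ k, T k ≤ W (π₂ k))
  (hcov : ∀ z ∈ O, ∃ i, z ∈ W i)
  (hcov2 : ∀ (i j : I) (z : Z), z ∈ W i → z ∈ W j → ∃ k, π₁ k = i ∧ π₂ k = j ∧ z ∈ T k)

include hcov in
theorem sec_inj (s t : Γ(G, O))
    (h : ∀ i, Groth.Agent.Helper1.QcCech.res G (hW i) s =
      Groth.Agent.Helper1.QcCech.res G (hW i) t) : s = t := by
  apply TopCat.Sheaf.eq_of_locally_eq' (⟨G.presheaf, G.isSheaf⟩ : TopCat.Sheaf Ab Z) W O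
    (fun i => homOfLE (hW i))
  · intro z hz
    obtain ⟨i, hi⟩ := hcov z hz
    exact Opens.mem_iSup.2 ⟨i, hi⟩
  · intro i
    exact h i

include hcov hcov2 in
theorem sec_glue (c : ∀ i, Γ(G, W i))
    (hc : ∀ k, Groth.Agent.Helper1.QcCech.res G (hT₁ k) (c (π₁ k)) =
      Groth.Agent.Helper1.QcCech.res G (hT₂ k) (c (π₂ k))) :
    ∃ s : Γ(G, O), ∀ i, Groth.Agent.Helper1.QcCech.res G (hW i) s = c i := by
  have hcomp : TopCat.Presheaf.IsCompatible G.presheaf W c := by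
    intro i j
    change Groth.Agent.Helper1.QcCech.res G (inf_le_left : W i ⊓ W j ≤ W i) (c i) =
      Groth.Agent.Helper1.QcCech.res G (inf_le_right : W i ⊓ W j ≤ W j) (c j)
    apply TopCat.Sheaf.eq_of_locally_eq' (⟨G.presheaf, G.isSheaf⟩ : TopCat.Sheaf Ab Z)
      (fun k : {k : K // π₁ k = i ∧ π₂ k = j} => T k.1) (W i ⊓ W j)
      (fun k => homOfLE (le_inf (by have := hT₁ k.1; rwa [k.2.1] at this)
        (by have := hT₂ k.1; rwa [k.2.2] at this)))
    · intro z hz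
      obtain ⟨k, hk1, hk2, hzk⟩ := hcov2 i j z hz.1 hz.2
      exact Opens.mem_iSup.2 ⟨⟨k, hk1, hk2⟩, hzk⟩
    · rintro ⟨k, rfl, rfl⟩
      change Groth.Agent.Helper1.QcCech.res G _ (Groth.Agent.Helper1.QcCech.res G _ (c (π₁ k))) =
        Groth.Agent.Helper1.QcCech.res G _ (Groth.Agent.Helper1.QcCech.res G _ (c (π₂ k)))
      rw [Groth.Agent.Helper1.QcCech.res_res, Groth.Agent.Helper1.QcCech.res_res]
      exact hc k
  obtain ⟨s, hs, -⟩ := TopCat.Sheaf.existsUnique_gluing'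
    (⟨G.presheaf, G.isSheaf⟩ : TopCat.Sheaf Ab Z) W O (fun i => homOfLE (hW i))
    (fun z hz => by
      obtain ⟨i, hi⟩ := hcov z hz
      exact Opens.mem_iSup.2 ⟨i, hi⟩) c hcomp
  exact ⟨s, hs⟩

end Sheaf

section Core

variable {X S X' S' : Scheme.{u}} (f : X ⟶ S) (g : S' ⟶ S) (g' : X' ⟶ X) (f' : X' ⟶ S')
  (F : X.Modules) {V : S.Opens} (V' : Set.Iic (g ⁻¹ᵁ V)) (h : IsPullback g' f' f g)

attribute [local instance] algAB modA modB

variable {I K : Type u} (Wc : I → Set.Iic (f ⁻¹ᵁ V)) (Tc : K → Set.Iic (f ⁻¹ᵁ V))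
  (π₁ π₂ : K → I) (hT₁ : ∀ k, Tc k ≤ Wc (π₁ k)) (hT₂ : ∀ k, Tc k ≤ Wc (π₂ k))

/-- the degree-zero differential of the Čech complex of a two-level cover, linear over the
coordinate ring of the base -/
noncomputable def dL : (∀ i, Γ(F, (Wc i).1)) →ₗ[Γ(S, V)] (∀ k, Γ(F, (Tc k).1)) :=
  LinearMap.pi fun k => (resA f F (hT₁ k)).comp (LinearMap.proj (π₁ k)) -
    (resA f F (hT₂ k)).comp (LinearMap.proj (π₂ k))

theorem dL_apply (y : ∀ i, Γ(F, (Wc i).1)) (k : K) :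
    dL f F Wc Tc π₁ π₂ hT₁ hT₂ y k =
      res F (show (Tc k).1 ≤ (Wc (π₁ k)).1 from hT₁ k) (y (π₁ k)) -
        res F (show (Tc k).1 ≤ (Wc (π₂ k)).1 from hT₂ k) (y (π₂ k)) := rfl

include h in
/-- **gluing base change over a finite affine cover with flat Čech cokernel**: the comparison map
`Γ(S', V') ⊗ Γ(F, W₀) → Γ(g'^* F, W₀')` is bijective when `W₀` has a finite two-level affine
cover whose degree-zero Čech differential has flat cokernel. -/
theorem bijAt_of_flat [Finite I] [Finite K] [F.IsQuasicoherent]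
    (hV : IsAffineOpen V) (hV' : IsAffineOpen V'.1)
    (hWa : ∀ i, IsAffineOpen (Wc i).1) (hTa : ∀ k, IsAffineOpen (Tc k).1)
    (W₀ : Set.Iic (f ⁻¹ᵁ V)) (hW₀ : ∀ i, Wc i ≤ W₀)
    (hcov : ∀ x ∈ W₀.1, ∃ i, x ∈ (Wc i).1)
    (hcov2 : ∀ (i j : I) (x : X), x ∈ (Wc i).1 → x ∈ (Wc j).1 →
      ∃ k, π₁ k = i ∧ π₂ k = j ∧ x ∈ (Tc k).1)
    (hfl0 : Module.Flat Γ(S, V) (∀ i, Γ(F, (Wc i).1)))
    (hfl1 : Module.Flat Γ(S, V) (∀ k, Γ(F, (Tc k).1)))
    (hflW : Module.Flat Γ(S, V)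
      ((∀ k, Γ(F, (Tc k).1)) ⧸ LinearMap.range (dL f F Wc Tc π₁ π₂ hT₁ hT₂))) :
    BijAt f g g' f' F V' h W₀ := by
  haveI := hfl0
  haveI := hfl1
  haveI := hflW
  let a : Γ(F, W₀.1) →ₗ[Γ(S, V)] (∀ i, Γ(F, (Wc i).1)) :=
    LinearMap.pi fun i => resA f F (hW₀ i)
  let c : Γ((pullback g').obj F, Wp g g' f' V' W₀.1) →ₗ[Γ(S', V'.1)]
      (∀ i, Γ((pullback g').obj F, Wp g g' f' V' (Wc i).1)) :=
    LinearMap.pi fun i => resB g g' f' F V' (show (Wc i).1 ≤ W₀.1 from hW₀ i)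
  let e : (∀ i, Γ((pullback g').obj F, Wp g g' f' V' (Wc i).1)) →ₗ[Γ(S', V'.1)]
      (∀ k, Γ((pullback g').obj F, Wp g g' f' V' (Tc k).1)) :=
    LinearMap.pi fun k =>
      (resB g g' f' F V' (show (Tc k).1 ≤ (Wc (π₁ k)).1 from hT₁ k)).comp
          (LinearMap.proj (π₁ k)) -
        (resB g g' f' F V' (show (Tc k).1 ≤ (Wc (π₂ k)).1 from hT₂ k)).comp
          (LinearMap.proj (π₂ k))
  have hL0 := semiLin_pi (A := Γ(S, V)) (B := Γ(S', V'.1))
    (fun i => semiLin_lW f g g' f' F V' h (Wc i))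
  have hL1 := semiLin_pi (A := Γ(S, V)) (B := Γ(S', V'.1))
    (fun k => semiLin_lW f g g' f' F V' h (Tc k))
  have hb0 : Function.Bijective (tens hL0) :=
    tens_pi_bijective _ (fun i => bijAt_affine f g g' f' F V' h hV hV' (Wc i) (hWa i))
  have hb1 : Function.Bijective (tens hL1) :=
    tens_pi_bijective _ (fun k => bijAt_affine f g g' f' F V' h hV hV' (Tc k) (hTa k))
  -- covering conditions upstairs
  have hcov' : ∀ x ∈ Wp g g' f' V' W₀.1, ∃ i, x ∈ Wp g g' f' V' (Wc i).1 := by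
    rintro x ⟨hx1, hx2⟩
    obtain ⟨i, hi⟩ := hcov (g'.base x) hx1
    exact ⟨i, ⟨hi, hx2⟩⟩
  have hcov2' : ∀ (i j : I) (x : X'), x ∈ Wp g g' f' V' (Wc i).1 → x ∈ Wp g g' f' V' (Wc j).1 →
      ∃ k, π₁ k = i ∧ π₂ k = j ∧ x ∈ Wp g g' f' V' (Tc k).1 := by
    rintro i j x ⟨hx1, hx2⟩ ⟨hy1, -⟩
    obtain ⟨k, hk1, hk2, hk⟩ := hcov2 i j (g'.base x) hx1 hy1
    exact ⟨k, hk1, hk2, ⟨hk, hx2⟩⟩
  unfold BijAt
  refine tens_bijective_of_exact a (dL f F Wc Tc π₁ π₂ hT₁ hT₂)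
    (LinearMap.range (dL f F Wc Tc π₁ π₂ hT₁ hT₂)).mkQ ?_ ?_
    (LinearMap.exact_map_mkQ_range _) (Submodule.mkQ_surjective _) c e ?_ ?_
    (semiLin_lW f g g' f' F V' h W₀) hL0 hL1 ?_ ?_ hb0 hb1.1
  · -- injectivity downstairs
    intro s t hst
    refine sec_inj F W₀.1 (fun i => (Wc i).1) (fun i => hW₀ i) hcov s t ?_
    intro i
    exact congrFun hst i
  · -- exactness downstairs
    intro y
    constructor
    · intro hy
      obtain ⟨s, hs⟩ := sec_glue F W₀.1 (fun i => (Wc i).1) (fun k => (Tc k).1) π₁ π₂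
        (fun i => hW₀ i) (fun k => hT₁ k) (fun k => hT₂ k) hcov hcov2 y
        (fun k => sub_eq_zero.1 (congrFun hy k))
      exact ⟨s, funext hs⟩
    · rintro ⟨s, rfl⟩
      funext k
      change res F (show (Tc k).1 ≤ (Wc (π₁ k)).1 from hT₁ k)
          (res F (show (Wc (π₁ k)).1 ≤ W₀.1 from hW₀ (π₁ k)) s) -
        res F (show (Tc k).1 ≤ (Wc (π₂ k)).1 from hT₂ k)
          (res F (show (Wc (π₂ k)).1 ≤ W₀.1 from hW₀ (π₂ k)) s) = 0
      rw [res_res, res_res, sub_self]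
  · -- injectivity upstairs
    intro s t hst
    refine sec_inj ((pullback g').obj F) (Wp g g' f' V' W₀.1)
      (fun i => Wp g g' f' V' (Wc i).1)
      (fun i => Wp_mono g g' f' V' (show (Wc i).1 ≤ W₀.1 from hW₀ i)) hcov' s t ?_
    intro i
    exact congrFun hst i
  · -- exactness upstairs
    intro y
    constructor
    · intro hy
      obtain ⟨s, hs⟩ := sec_glue ((pullback g').obj F) (Wp g g' f' V' W₀.1)
        (fun i => Wp g g' f' V' (Wc i).1) (fun k => Wp g g' f' V' (Tc k).1) π₁ π₂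
        (fun i => Wp_mono g g' f' V' (show (Wc i).1 ≤ W₀.1 from hW₀ i))
        (fun k => Wp_mono g g' f' V' (show (Tc k).1 ≤ (Wc (π₁ k)).1 from hT₁ k))
        (fun k => Wp_mono g g' f' V' (show (Tc k).1 ≤ (Wc (π₂ k)).1 from hT₂ k))
        hcov' hcov2' y (fun k => sub_eq_zero.1 (congrFun hy k))
      exact ⟨s, funext hs⟩
    · rintro ⟨s, rfl⟩
      funext k
      change res ((pullback g').obj F)
          (Wp_mono g g' f' V' (show (Tc k).1 ≤ (Wc (π₁ k)).1 from hT₁ k))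
          (res ((pullback g').obj F)
            (Wp_mono g g' f' V' (show (Wc (π₁ k)).1 ≤ W₀.1 from hW₀ (π₁ k))) s) -
        res ((pullback g').obj F)
          (Wp_mono g g' f' V' (show (Tc k).1 ≤ (Wc (π₂ k)).1 from hT₂ k))
          (res ((pullback g').obj F)
            (Wp_mono g g' f' V' (show (Wc (π₂ k)).1 ≤ W₀.1 from hW₀ (π₂ k))) s) = 0
      rw [res_res, res_res, sub_self]
  · -- compatibility in degree zero
    intro m
    funext i
    exact resB_lW f g g' f' F V' (hW₀ i) m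
  · -- compatibility in degree one
    intro y
    funext k
    change resB g g' f' F V' (show (Tc k).1 ≤ (Wc (π₁ k)).1 from hT₁ k)
        (lW g g' f' F V' (Wc (π₁ k)).1 (y (π₁ k))) -
      resB g g' f' F V' (show (Tc k).1 ≤ (Wc (π₂ k)).1 from hT₂ k)
        (lW g g' f' F V' (Wc (π₂ k)).1 (y (π₂ k))) =
      lW g g' f' F V' (Tc k).1 (resA f F (hT₁ k) (y (π₁ k)) - resA f F (hT₂ k) (y (π₂ k)))
    rw [resB_lW f g g' f' F V' (hT₁ k), resB_lW f g g' f' F V' (hT₂ k),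
      Groth.Agent.Helper7.BC0.SemiLin.map_sub' (semiLin_lW f g g' f' F V' h (Tc k))]

end Core

section Final

variable {X S X' S' : Scheme.{u}} (f : X ⟶ S) (g : S' ⟶ S) (g' : X' ⟶ X) (f' : X' ⟶ S')
  (h : IsPullback g' f' f g) (F : X.Modules)

attribute [local instance] algAB modA modB

theorem bcMap_eq_bc0 : bcMap f g g' f' h F = CohBC.bc0 f g f' g' h.w F := rfl

include h in
theorem bijective_bcMap_app_of_bijAt [QuasiCompact f] [QuasiSeparated f]
    [F.IsQuasicoherent] {V : S.Opens} (V₀' : Set.Iic (g ⁻¹ᵁ V))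
    (hV : IsAffineOpen V) (hV' : IsAffineOpen V₀'.1)
    (hb : BijAt f g g' f' F V₀' h ⟨f ⁻¹ᵁ V, (le_refl (f ⁻¹ᵁ V) : f ⁻¹ᵁ V ≤ f ⁻¹ᵁ V)⟩) :
    Function.Bijective ((bcMap f g g' f' h F).app V₀'.1) := by
  obtain ⟨W₀, hW₀e⟩ : ∃ W₀ : Set.Iic (f ⁻¹ᵁ V),
      W₀ = ⟨f ⁻¹ᵁ V, (le_refl (f ⁻¹ᵁ V) : f ⁻¹ᵁ V ≤ f ⁻¹ᵁ V)⟩ := ⟨_, rfl⟩
  rw [← hW₀e] at hb
  have hW₀ : f ⁻¹ᵁ V ≤ W₀.1 := by rw [hW₀e]
  haveI : ((pushforward f).obj F).IsQuasicoherent :=
    Groth.Agent.Helper1.PushQc.isQuasicoherent_pushforward f F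
  have h1 := isBC_unitRes g ((pushforward f).obj F) hV hV' V₀'.2
  let ι : Γ((pushforward f).obj F, V) ≃ₗ[Γ(S, V)] Γ(F, W₀.1) :=
    { toFun := fun m => res F W₀.2 (show Γ(F, f ⁻¹ᵁ V) from m)
      invFun := fun m => res F hW₀ m
      map_add' := fun x y => res_add F W₀.2 _ _
      map_smul' := fun a m => by
        change res F W₀.2 (show Γ(F, f ⁻¹ᵁ V) from ((f.app V).hom a : Γ(X, f ⁻¹ᵁ V)) •
          (show Γ(F, f ⁻¹ᵁ V) from m)) = (f.appLE V W₀.1 W₀.2).hom a • res F W₀.2 _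
        rw [res_smul']
        rfl
      left_inv := fun m => (res_res F W₀.2 hW₀ _).trans
        (Groth.Agent.Helper1.QcCech.res_self F _ _)
      right_inv := fun m => (res_res F hW₀ W₀.2 _).trans
        (Groth.Agent.Helper1.QcCech.res_self F _ _) }
  have hle1 : Wp g g' f' V₀' W₀.1 ≤ f' ⁻¹ᵁ V₀'.1 := inf_le_right
  have hle2 : f' ⁻¹ᵁ V₀'.1 ≤ Wp g g' f' V₀' W₀.1 :=
    le_inf ((preimage_le f g g' f' h V₀'.2).trans (g'.preimage_mono hW₀)) le_rfl
  let υ : Γ((pullback g).obj ((pushforward f).obj F), V₀'.1) →+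
      Γ((pullback g').obj F, Wp g g' f' V₀' W₀.1) :=
    { toFun := fun n => res ((pullback g').obj F) hle1 ((bcMap f g g' f' h F).app V₀'.1 n)
      map_zero' := by
        rw [map_zero]
        exact map_zero (Groth.Agent.Helper1.QcCech.res ((pullback g').obj F) hle1)
      map_add' := fun x y => by
        rw [map_add]
        exact res_add _ hle1 _ _ }
  have hυ : ∀ (b : Γ(S', V₀'.1)) (n : Γ((pullback g).obj ((pushforward f).obj F), V₀'.1)),
      υ (b • n) = b • υ n := by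
    intro b n
    change res ((pullback g').obj F) hle1 ((bcMap f g g' f' h F).app V₀'.1 (b • n)) =
      (f'.appLE V₀'.1 (Wp g g' f' V₀' W₀.1) inf_le_right).hom b •
        res ((pullback g').obj F) hle1 ((bcMap f g g' f' h F).app V₀'.1 n)
    rw [Scheme.Modules.Hom.app_smul]
    have h1 : (b • ((bcMap f g g' f' h F).app V₀'.1 n) :
        Γ((pushforward f').obj ((pullback g').obj F), V₀'.1)) =
        (show Γ((pullback g').obj F, f' ⁻¹ᵁ V₀'.1) from
          ((f'.app V₀'.1).hom b : Γ(X', f' ⁻¹ᵁ V₀'.1)) •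
          (show Γ((pullback g').obj F, f' ⁻¹ᵁ V₀'.1) from
            (bcMap f g g' f' h F).app V₀'.1 n)) := rfl
    refine (congrArg (res ((pullback g').obj F) hle1) h1).trans ?_
    refine (res_smul' ((pullback g').obj F) hle1 _ _).trans ?_
    rfl
  have hcomm : ∀ m, υ (unitRes g ((pushforward f).obj F) V₀'.2 m) =
      lW g g' f' F V₀' W₀.1 (ι m) := by
    intro m
    change res ((pullback g').obj F) hle1
      ((bcMap f g g' f' h F).app V₀'.1 (unitRes g ((pushforward f).obj F) V₀'.2 m)) = _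
    rw [bcMap_unitRes]
    exact unitRes_res g' F _ _ W₀.2 hle1 _
  have hυb := bijective_of_isBC_of_tens (g.appLE V V₀'.1 V₀'.2).hom h1 ι υ hυ hcomm
    (semiLin_lW f g g' f' F V₀' h W₀) hb
  have hρ := res_bijective_of_le_of_le ((pullback g').obj F) hle1 hle2
  exact (Function.Bijective.of_comp_iff' hρ _).1 hυb

include h in
/-- **the degree-zero base change map is an isomorphism as soon as the comparison maps on sections
are bijective over small affine opens** -/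
theorem isIso_bc0_of_local [QuasiCompact f] [QuasiSeparated f] [F.IsQuasicoherent]
    (hloc : ∀ x : S', ∃ V : S.Opens, IsAffineOpen V ∧ g x ∈ V ∧
      ∀ V' : Set.Iic (g ⁻¹ᵁ V), IsAffineOpen V'.1 →
        BijAt f g g' f' F V' h ⟨f ⁻¹ᵁ V, (le_refl (f ⁻¹ᵁ V) : f ⁻¹ᵁ V ≤ f ⁻¹ᵁ V)⟩) :
    IsIso (CohBC.bc0 f g f' g' h.w F) := by
  rw [← bcMap_eq_bc0 f g g' f' h F]
  apply isIso_of_bijective_nhds
  intro U x hx
  obtain ⟨V, hV, hxV, hbij⟩ := hloc x
  obtain ⟨_, ⟨V', hV', rfl⟩, hxV', hle⟩ :=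
    S'.isBasis_affineOpens.exists_subset_of_mem_open
      (show x ∈ (U ⊓ g ⁻¹ᵁ V : S'.Opens) from ⟨hx, hxV⟩) (U ⊓ g ⁻¹ᵁ V).2
  exact ⟨V', fun y hy => (hle hy).1, hxV',
    bijective_bcMap_app_of_bijAt f g g' f' h F ⟨V', fun y hy => (hle hy).2⟩ hV hV'
      (hbij ⟨V', fun y hy => (hle hy).2⟩ hV')⟩

end Final

end Groth.Agent.Helper7.BC0
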