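import Mathlib
import Groth.Agent.Lib.Helper7.BC0.Glue
import Groth.Agent.Lib.Helper4.BCSec2
import Groth.Agent.Lib.Helper1.RpushLoc1

set_option linter.style.haveILetI false
set_option linter.unusedVariables false
set_option linter.unusedSectionVars false
set_option autoImplicit false
set_option backward.isDefEq.respectTransparency.types false
set_option backward.isDefEq.respectTransparency false
set_option synthInstance.maxHeartbeats 400000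
set_option maxHeartbeats 1600000

universe u

/-! helper7: bridge between the Cech complex of the restriction of a module to the preimage of an affine open (as a scheme over the coordinate ring) and families of sections over image opens; flat Cech cokernel gives bijectivity of the base change comparison -/

open CategoryTheory CategoryTheory.Limits AlgebraicGeometry Opposite TopologicalSpace
open Groth.Agent.Helper1
open Groth.Agent.Helper1.RpushLoc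
open Groth.Agent.Lib.Helper4.BaseChgRing1
open Groth.Agent.Lib.Helper4.TenSec2
open Groth.Agent.Lib.Helper4.LocCech1
open Groth.Agent.Lib.Helper4.CechTen1
open Groth.Agent.Lead.BCU Groth.Agent.Lead.FBC

namespace Groth.Agent.Helper7.BC0

/-- the action on sections of the restriction of a module along an open immersion -/
theorem restrict_smul {U X : Scheme.{u}} (j : U ⟶ X) [IsOpenImmersion j] (F : X.Modules)
    (W' : U.Opens) (r : Γ(U, W')) (x : Γ(F.restrict j, W')) :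
    r • x = (show Γ(F, j ''ᵁ W') from ((j.appIso W').inv.hom r : Γ(X, j ''ᵁ W')) •
      (show Γ(F, j ''ᵁ W') from x)) := rfl

section Bridge

variable {X S : Scheme.{u}} (f : X ⟶ S) {V : S.Opens} (hV : IsAffineOpen V)
  [ov : (↑(f ⁻¹ᵁ V) : Scheme.{u}).Over (Spec (CommRingCat.of Γ(S, V)))]
  (hov : ((↑(f ⁻¹ᵁ V) : Scheme.{u}) ↘ Spec (CommRingCat.of Γ(S, V))) = strMap f hV)

include hov in
/-- the structure map of the coordinate rings of the preimage of an affine open, as a scheme over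
the coordinate ring of that open, is the map of sections of the morphism -/
theorem key_smul (W' : (↑(f ⁻¹ᵁ V) : Scheme.{u}).Opens) (a : Γ(S, V)) :
    (alphaRing Γ(S, V) (↑(f ⁻¹ᵁ V) : Scheme.{u}) W' a : Γ(X, (f ⁻¹ᵁ V).ι ''ᵁ W')) =
      (f.appLE V ((f ⁻¹ᵁ V).ι ''ᵁ W') ((f ⁻¹ᵁ V).ι_image_le W')).hom a := by
  have e1 : (Scheme.ΓSpecIso (CommRingCat.of Γ(S, V))).inv ≫ hV.isoSpec.hom.appTop =
      V.topIso.inv := by
    rw [hV.isoSpec_hom_appTop]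
    exact Iso.inv_hom_id_assoc _ _
  have e2 : V.topIso.inv ≫ (f ∣_ V).appLE ⊤ W' le_top =
      f.appLE V ((f ⁻¹ᵁ V).ι ''ᵁ W') ((f ⁻¹ᵁ V).ι_image_le W') := by
    rw [morphismRestrict_appLE, Scheme.Opens.topIso_inv, Scheme.Hom.map_appLE]
  have key : ∀ (θ : (↑(f ⁻¹ᵁ V) : Scheme.{u}) ⟶ Spec (CommRingCat.of Γ(S, V)))
      (hθ : θ = strMap f hV), θ.appLE ⊤ W' le_top =
        hV.isoSpec.hom.appTop ≫ (f ∣_ V).appLE ⊤ W' le_top := by
    intro θ hθ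
    subst hθ
    unfold strMap
    rw [Scheme.Hom.comp_appLE]
    rfl
  have e3 : (Scheme.ΓSpecIso (CommRingCat.of Γ(S, V))).inv ≫
      ((↑(f ⁻¹ᵁ V) : Scheme.{u}) ↘ Spec (CommRingCat.of Γ(S, V))).appLE ⊤ W' le_top =
      f.appLE V ((f ⁻¹ᵁ V).ι ''ᵁ W') ((f ⁻¹ᵁ V).ι_image_le W') := by
    rw [← e2, ← e1, Category.assoc, key _ hov]
  exact congrArg (fun φ => φ.hom a) e3

attribute [local instance] secMod

variable (F : X.Modules)

include hov in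
/-- the two actions of the coordinate ring of `V` on sections of `F` over an open of `f⁻¹ V` agree -/
theorem smul_bridge (W' : (↑(f ⁻¹ᵁ V) : Scheme.{u}).Opens) (r : Γ(S, V))
    (s : Γ(F.restrict (f ⁻¹ᵁ V).ι, W')) :
    (r • s : Γ(F.restrict (f ⁻¹ᵁ V).ι, W')) =
      (show Γ(F, (f ⁻¹ᵁ V).ι ''ᵁ W') from
        (f.appLE V ((f ⁻¹ᵁ V).ι ''ᵁ W') ((f ⁻¹ᵁ V).ι_image_le W')).hom r •
          (show Γ(F, (f ⁻¹ᵁ V).ι ''ᵁ W') from s)) := by
  have h2 : (((f ⁻¹ᵁ V).ι.appIso W').inv.hom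
      (alphaRing Γ(S, V) (↑(f ⁻¹ᵁ V) : Scheme.{u}) W' r) : Γ(X, (f ⁻¹ᵁ V).ι ''ᵁ W')) =
      (f.appLE V ((f ⁻¹ᵁ V).ι ''ᵁ W') ((f ⁻¹ᵁ V).ι_image_le W')).hom r := by
    rw [Scheme.Opens.ι_appIso]
    exact key_smul f hV hov W' r
  change (alphaRing Γ(S, V) (↑(f ⁻¹ᵁ V) : Scheme.{u}) W' r • s :
    Γ(F.restrict (f ⁻¹ᵁ V).ι, W')) = _
  rw [restrict_smul, h2]

variable {ι₀ : Type u} (U' : ι₀ → (↑(f ⁻¹ᵁ V) : Scheme.{u}).Opens)

/-- the images in `X` of the multi-intersections of a family of opens of `f⁻¹ V` -/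
noncomputable def Wim (n : ℕ) (a : Fin (n + 1) → ι₀) : Set.Iic (f ⁻¹ᵁ V) :=
  ⟨(f ⁻¹ᵁ V).ι ''ᵁ TCx.W U' a, (f ⁻¹ᵁ V).ι_image_le _⟩

/-- the first face -/
def pi1 (k : Fin (0 + 2) → ι₀) : Fin (0 + 1) → ι₀ := fun j => k ((0 : Fin (0 + 2)).succAbove j)

/-- the second face -/
def pi2 (k : Fin (0 + 2) → ι₀) : Fin (0 + 1) → ι₀ := fun j => k ((1 : Fin (0 + 2)).succAbove j)

theorem hT1 (k : Fin (0 + 2) → ι₀) : Wim f U' 1 k ≤ Wim f U' 0 (pi1 k) := by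
  show (f ⁻¹ᵁ V).ι ''ᵁ TCx.W U' k ≤ (f ⁻¹ᵁ V).ι ''ᵁ TCx.W U' (pi1 k)
  rintro _ ⟨x, hx, rfl⟩
  exact ⟨x, TCx.W_face_le U' k 0 hx, rfl⟩

theorem hT2 (k : Fin (0 + 2) → ι₀) : Wim f U' 1 k ≤ Wim f U' 0 (pi2 k) := by
  show (f ⁻¹ᵁ V).ι ''ᵁ TCx.W U' k ≤ (f ⁻¹ᵁ V).ι ''ᵁ TCx.W U' (pi2 k)
  rintro _ ⟨x, hx, rfl⟩
  exact ⟨x, TCx.W_face_le U' k 1 hx, rfl⟩

attribute [local instance] modA

include hov in
/-- the Čech cochains of the restriction, over the coordinate ring of `V`, are the families of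
sections of `F` over the image opens -/
noncomputable def cEquiv (n : ℕ) :
    Co (F.restrict (f ⁻¹ᵁ V).ι) U' n ≃ₗ[Γ(S, V)]
      (∀ a : Fin (n + 1) → ι₀, Γ(F, (Wim f U' n a).1)) where
  toFun y := y
  invFun y := y
  map_add' _ _ := rfl
  map_smul' r y := by
    funext a
    exact smul_bridge f hV hov F (TCx.W U' a) r (y a)
  left_inv _ := rfl
  right_inv _ := rfl

include hov in
theorem cEquiv_Dd (y : Co (F.restrict (f ⁻¹ᵁ V).ι) U' 0) :
    cEquiv f hV hov F U' 1 (DdA Γ(S, V) (F.restrict (f ⁻¹ᵁ V).ι) U' 0 y) =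
      dL f F (Wim f U' 0) (Wim f U' 1) pi1 pi2 (hT1 f U') (hT2 f U')
        (cEquiv f hV hov F U' 0 y) := by
  funext k
  rw [DdA_apply]
  change Dd (F.restrict (f ⁻¹ᵁ V).ι) U' 0 y k = _
  rw [Dd_apply, Fin.sum_univ_two, dL_apply]
  have hsum : ∀ (T : Type u) [AddCommGroup T] (x₀ x₁ : T),
      (-1 : ℤ) ^ ((0 : Fin (0 + 2)) : ℕ) • x₀ + (-1 : ℤ) ^ ((1 : Fin (0 + 2)) : ℕ) • x₁ =
        x₀ - x₁ := by
    intro T _ x₀ x₁
    simp [sub_eq_add_neg]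
  exact hsum _ _ _

include hov in
/-- **bridge**: flatness of the Čech cokernel of the restriction of `F` to `f⁻¹ V`, as a scheme over
the coordinate ring of `V`, gives bijectivity of the base change comparison over `f⁻¹ V` -/
theorem bijAt_of_flatW {X' S' : Scheme.{u}} (g : S' ⟶ S) (g' : X' ⟶ X) (f' : X' ⟶ S')
    (h : IsPullback g' f' f g) [F.IsQuasicoherent] [Finite ι₀]
    (hcovU : iSup U' = ⊤)
    (haffU : ∀ (n : ℕ) (a : Fin (n + 1) → ι₀), IsAffineOpen (TCx.W U' a))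
    (hfl0 : Module.Flat Γ(S, V) (Co (F.restrict (f ⁻¹ᵁ V).ι) U' 0))
    (hfl1 : Module.Flat Γ(S, V) (Co (F.restrict (f ⁻¹ᵁ V).ι) U' 1))
    (hflW : Module.Flat Γ(S, V) (Co (F.restrict (f ⁻¹ᵁ V).ι) U' 1 ⧸
      LinearMap.range (DdA Γ(S, V) (F.restrict (f ⁻¹ᵁ V).ι) U' 0)))
    (V' : Set.Iic (g ⁻¹ᵁ V)) (hV' : IsAffineOpen V'.1) :
    BijAt f g g' f' F V' h ⟨f ⁻¹ᵁ V, (le_refl (f ⁻¹ᵁ V) : f ⁻¹ᵁ V ≤ f ⁻¹ᵁ V)⟩ := by
  haveI : Finite (Fin (0 + 1) → ι₀) := inferInstance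
  haveI : Finite (Fin (0 + 2) → ι₀) := inferInstance
  refine bijAt_of_flat f g g' f' F V' h (Wim f U' 0) (Wim f U' 1) pi1 pi2 (hT1 f U') (hT2 f U')
    hV hV' (fun a => (haffU 0 a).image_of_isOpenImmersion _)
    (fun k => (haffU 1 k).image_of_isOpenImmersion _)
    ⟨f ⁻¹ᵁ V, (le_refl (f ⁻¹ᵁ V) : f ⁻¹ᵁ V ≤ f ⁻¹ᵁ V)⟩ (fun a => (Wim f U' 0 a).2) ?_ ?_ ?_ ?_ ?_
  · intro x hx
    have hx' : (⟨x, hx⟩ : ↥(f ⁻¹ᵁ V)) ∈ iSup U' := by
      rw [hcovU]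
      trivial
    obtain ⟨i, hi⟩ := Opens.mem_iSup.1 hx'
    refine ⟨fun _ => i, ⟨⟨x, hx⟩, ?_, rfl⟩⟩
    exact TCx.le_W U' (fun _ => i) (U' i) (fun _ => le_rfl) hi
  · rintro a b x ⟨x₁, hx₁, rfl⟩ ⟨x₂, hx₂, hx₂e⟩
    have he : x₂ = x₁ := (f ⁻¹ᵁ V).ι.isOpenEmbedding.injective hx₂e
    subst he
    refine ⟨Fin.cons (b 0) (fun _ => a 0), ?_, ?_, ⟨x₂, ?_, rfl⟩⟩
    · funext j
      rw [Subsingleton.elim j 0]
      rfl
    · funext j
      rw [Subsingleton.elim j 0]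
      rfl
    · refine TCx.le_W U' _ (U' (a 0) ⊓ U' (b 0)) ?_ ⟨TCx.W_le U' a 0 hx₁, TCx.W_le U' b 0 hx₂⟩
      intro t
      refine Fin.cases ?_ (fun j => ?_) t
      · exact inf_le_right
      · exact inf_le_left
  · haveI := hfl0
    exact Module.Flat.of_linearEquiv (cEquiv f hV hov F U' 0).symm
  · haveI := hfl1
    exact Module.Flat.of_linearEquiv (cEquiv f hV hov F U' 1).symm
  · exact flat_quot_range_of_equiv (cEquiv f hV hov F U' 0) (cEquiv f hV hov F U' 1)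
      (DdA Γ(S, V) (F.restrict (f ⁻¹ᵁ V).ι) U' 0) _ (cEquiv_Dd f hV hov F U') hflW

end Bridge

end Groth.Agent.Helper7.BC0
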