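import Mathlib
import Groth.Agent.Lib.Helper7.BC0.Alg
import Groth.Agent.Lib.Helper7.CohBC.Model
import Groth.Agent.Lib.Helper4.MumBC2
import Groth.Agent.Lib.Helper4.Grauert2
import Groth.Agent.Lib.Helper4.CechCls1
import Groth.Agent.Lib.Lead.BCU3

set_option linter.style.haveILetI false
set_option linter.unusedVariables false
set_option linter.unusedSectionVars false
set_option autoImplicit false
set_option backward.isDefEq.respectTransparency.types false
set_option backward.isDefEq.respectTransparency false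
set_option synthInstance.maxHeartbeats 400000
set_option maxHeartbeats 1600000

universe u

/-! helper7: flatness of the cokernel of the first Cech differential from vanishing of H^1 of the fibres (exchange property in degree zero via the Mumford complex of a Noetherian model, base change and isomorphism invariance) -/

open CategoryTheory CategoryTheory.Limits AlgebraicGeometry Opposite TopologicalSpace Topology
open MonoidalCategory
open Groth.Agent.Helper1
open Groth.Agent.Lib.Helper4.LocCech1
open Groth.Agent.Lib.Helper4.BaseChgRing1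
open Groth.Agent.Lib.Helper4.TenSec2
open Groth.Agent.Lib.Helper4.CechTen1
open Groth.Agent.Lib.Helper4.CechTen2
open Groth.Agent.Lib.Helper4.CechTen3
open Groth.Agent.Lib.Helper4.BCSec1
open Groth.Agent.Lib.Helper4.BCSec2
open Groth.Agent.Lib.Helper4.MumCx1
open Groth.Agent.Lib.Helper4.MumCx2
open Groth.Agent.Lib.Helper4.MumBC1
open Groth.Agent.Lib.Helper4.MumBC2
open Groth.Agent.Lib.Helper4.ExchAlg1
open Groth.Agent.Lib.Helper4.ExchAlg2
open Groth.Agent.Lib.Helper4.TruncAlg1
open Groth.Agent.Lib.Helper4.Grauert2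
open Groth.Agent.Lib.Helper4.CechCls1

namespace Groth.Agent.Helper7.BC0

attribute [local instance] Groth.Agent.Lib.Helper4.TenSec2.secMod

section Transfer

variable {A : Type u} [CommRing A]

/-- the exchange property only depends on the functor `T^p` up to natural isomorphism -/
theorem presSurj_of_iso {K L : CochainComplex (ModuleCat.{u} A) ℤ} (p : ℤ)
    (e : CohIII.TFun K p ≅ CohIII.TFun L p) (h : PresSurj K p) : PresSurj L p := by
  intro M M'' g hg y
  obtain ⟨x, hx⟩ := h M M'' g hg ((e.inv.app M'').hom y)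
  refine ⟨(e.hom.app M).hom x, ?_⟩
  have h1 : ((CohIII.TFun L p).map g).hom ((e.hom.app M).hom x) =
      (e.hom.app M'').hom (((CohIII.TFun K p).map g).hom x) :=
    (ConcreteCategory.congr_hom (e.hom.naturality g) x).symm
  have h2 : (e.hom.app M'').hom ((e.inv.app M'').hom y) = y :=
    ConcreteCategory.congr_hom (e.inv_hom_id_app M'') y
  exact h1.trans ((congrArg (e.hom.app M'').hom hx).trans h2)

end Transfer

section Noeth

variable (A : Type u) [CommRing A] [IsNoetherianRing A] (X : Scheme.{u})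
  [X.Over (Spec (CommRingCat.of A))] [IsProper (X ↘ Spec (CommRingCat.of A))]
  (F : X.Modules) [F.IsQuasicoherent]

/-- over a Noetherian base, vanishing of `H^1` of all fibres gives the exchange property in degree
zero for the Čech complex of the Mumford data -/
theorem presSurj_CZ_of_fibre_vanishing (D : MData A X F)
    (h : ∀ y : ↑(Spec (CommRingCat.of A)),
      Subsingleton (CohIII.fiberH (X ↘ Spec (CommRingCat.of A)) F y 1)) :
    PresSurj (CZ A F D.U) 0 := by
  haveI : ∀ i, Module.Finite A (D.K.X i) := fun i => (D.hff i).1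
  haveI : ∀ i, Module.Free A (D.K.X i) := fun i => (D.hff i).2
  have hfv : FibVan D.K (1 : ℤ) := D.fibVan 1 h
  have hW := (flat_W_of_fibVan D.K 0 1 2 (by norm_num) (by norm_num) hfv).1
  have hK : PresSurj D.K 0 := (presSurj_iff_flat D.K (-1) 0 1 (by norm_num) (by norm_num)).2 hW
  exact presSurj_of_iso 0 (D.eK 0) hK

end Noeth

section BaseChange

variable {A B : Type u} [CommRing A] [CommRing B] (φ : A →+* B)
variable {X X' : Scheme.{u}} [X.Over (Spec (CommRingCat.of A))] [X'.Over (Spec (CommRingCat.of B))]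
variable (g : X' ⟶ X) (F : X.Modules) [F.IsQuasicoherent] {ι : Type u} [Finite ι] (U : ι → X.Opens)

/-- the exchange property in degree zero passes to base changes -/
theorem presSurj_baseChange
    (hsq : IsPullback g (X' ↘ Spec (CommRingCat.of B)) (X ↘ Spec (CommRingCat.of A))
      (Spec.map (CommRingCat.ofHom φ)))
    (haff : ∀ (n : ℕ) (a : Fin (n + 1) → ι), IsAffineOpen (TCx.W U a))
    (h : PresSurj (CZ A F U) 0) : PresSurj (CZ B (Fp g F) (Up g U)) 0 := by
  intro M M'' g₀ hg₀
  have e := bcCech φ g F U hsq haff 0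
  show Function.Surjective ((CohIII.TFun (CZ B (Fp g F) (Up g U)) ((0 : ℕ) : ℤ)).map g₀).hom
  refine (map_surjective_iff (CZ B (Fp g F) (Up g U)) ((0 : ℕ) : ℤ) e.symm g₀).1 ?_
  have hA := h _ _ ((ModuleCat.restrictScalars φ).map g₀) (fun y => hg₀ y)
  intro y
  obtain ⟨x, hx⟩ := hA y
  exact ⟨x, hx⟩

end BaseChange

section Concrete

variable (A : Type u) [CommRing A] {X : Scheme.{u}} [X.Over (Spec (CommRingCat.of A))]
variable (F : X.Modules) {ι : Type u} (U : ι → X.Opens)

/-- the exchange property in degree zero makes the cokernel of the first Čech differential flat -/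
theorem flatW_of_presSurj [Finite ι] [F.IsQuasicoherent]
    (hfl : FlatMod.IsFlatOver (X ↘ Spec (CommRingCat.of A)) F)
    (haff : ∀ (n : ℕ) (a : Fin (n + 1) → ι), IsAffineOpen (TCx.W U a))
    (h : PresSurj (CZ A F U) 0) :
    Module.Flat A (Co F U 1 ⧸ LinearMap.range (DdA A F U 0)) := by
  haveI : Module.Flat A ((CZ A F U).X 1) := flat_CZ A F U hfl haff 1
  have h1 : Module.Flat A ((CZ A F U).X 1 ⧸ Bq (CZ A F U) 0 1) :=
    (presSurj_iff_flat (CZ A F U) (-1) 0 1 (by norm_num) (by norm_num)).1 h
  refine flat_quot_range_of_equiv (ex0 A F U).toLinearEquiv (ex1 A F U).toLinearEquiv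
    ((CZ A F U).d 0 1).hom (DdA A F U 0) ?_ h1
  intro y
  have h2 := congrArg (fun m => m ≫ (ex1 A F U).hom) (CZ_d01 A F U)
  simp only [Category.assoc, Iso.inv_hom_id, Category.comp_id] at h2
  exact ConcreteCategory.congr_hom h2 y

theorem flat_Co [Finite ι] [F.IsQuasicoherent]
    (hfl : FlatMod.IsFlatOver (X ↘ Spec (CommRingCat.of A)) F)
    (haff : ∀ (n : ℕ) (a : Fin (n + 1) → ι), IsAffineOpen (TCx.W U a)) (n : ℕ) :
    Module.Flat A (Co F U n) :=
  flat_CAN A F U hfl haff n

variable {F} in
/-- an isomorphism of modules induces an isomorphism of Čech cochains -/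
noncomputable def coEquiv {G : X.Modules} (e : F ≅ G) (n : ℕ) : Co F U n ≃ₗ[A] Co G U n where
  toFun y a := e.hom.app (TCx.W U a) (y a)
  invFun y a := e.inv.app (TCx.W U a) (y a)
  map_add' y y' := by
    funext a
    exact map_add _ _ _
  map_smul' r y := by
    funext a
    exact Scheme.Modules.Hom.app_smul e.hom (alphaRing A X (TCx.W U a) r) (y a)
  left_inv y := by
    funext a
    have h := congrArg (fun φ => Scheme.Modules.Hom.app φ (TCx.W U a)) e.hom_inv_id
    exact congrArg (fun φ => φ (y a)) h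
  right_inv y := by
    funext a
    have h := congrArg (fun φ => Scheme.Modules.Hom.app φ (TCx.W U a)) e.inv_hom_id
    exact congrArg (fun φ => φ (y a)) h

variable {F} in
theorem coEquiv_Dd {G : X.Modules} (e : F ≅ G) (y : Co F U 0) :
    coEquiv A U e 1 (DdA A F U 0 y) = DdA A G U 0 (coEquiv A U e 0 y) := by
  funext a
  rw [DdA_apply, DdA_apply, Dd_apply]
  change e.hom.app (TCx.W U a) (Dd F U 0 y a) = _
  rw [Dd_apply, map_sum]
  refine Finset.sum_congr rfl fun i _ => ?_
  rw [map_zsmul]
  congr 1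
  exact Groth.Agent.Lead.BCU.app_res e.hom (TCx.W_face_le U a i) _

variable {F} in
/-- flatness of the Čech cokernel only depends on the isomorphism class of the module -/
theorem flatW_of_iso {G : X.Modules} (e : F ≅ G)
    (h : Module.Flat A (Co F U 1 ⧸ LinearMap.range (DdA A F U 0))) :
    Module.Flat A (Co G U 1 ⧸ LinearMap.range (DdA A G U 0)) :=
  flat_quot_range_of_equiv (coEquiv A U e 0) (coEquiv A U e 1) (DdA A F U 0) (DdA A G U 0)
    (coEquiv_Dd A U e) h

end Concrete

section Point

/-- **flatness of the Čech cokernel near a point with vanishing `H^1` of the fibre**: for a proper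
finitely presented morphism to an affine scheme and a finitely presented flat module whose fibre at
`y` has vanishing first cohomology, after inverting a function not vanishing at `y` every affine
base change has a finite affine cover whose first Čech differential has flat cokernel. -/
theorem exists_unit_flatW (A : Type u) [CommRing A] {X : Scheme.{u}}
    (f : X ⟶ Spec (CommRingCat.of A)) [IsProper f] [LocallyOfFinitePresentation f]
    (F : X.Modules) [F.IsQuasicoherent] (hF : CohB1.IsFP F) (hfl : FlatMod.IsFlatOver f F)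
    (y : ↥(Spec (CommRingCat.of A))) (h0 : Subsingleton (CohIII.fiberH f F y 1)) :
    ∃ g : A, g ∉ y.asIdeal ∧ ∀ (B : Type u) [CommRing B] (ψ : A →+* B), IsUnit (ψ g) →
      ∀ (X' : Scheme.{u}) (f' : X' ⟶ Spec (CommRingCat.of B)) (r : X' ⟶ X),
        IsPullback r f' f (Spec.map (CommRingCat.ofHom ψ)) →
        ∀ (G : X'.Modules), ((Scheme.Modules.pullback r).obj F ≅ G) →
        letI : X'.Over (Spec (CommRingCat.of B)) := ⟨f'⟩
        ∃ (ι : Type u) (_ : Finite ι) (U : ι → X'.Opens), iSup U = ⊤ ∧
          (∀ (n : ℕ) (a : Fin (n + 1) → ι), IsAffineOpen (TCx.W U a)) ∧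
          Module.Flat B (Co G U 1 ⧸ LinearMap.range (DdA B G U 0)) := by
  obtain ⟨g, A₁, _, _, X₁, f₁, F₁, hg, hprop, hcoh, hflat, hvan, hbc⟩ :=
    Groth.Agent.Helper7.CohBC.exists_noeth_model_vanishing A f F hF hfl y {1} (fun i hi => by
      rw [Finset.mem_singleton] at hi
      subst hi
      exact h0)
  refine ⟨g, hg, fun B _ ψ hu X' f' r hsq G eG => ?_⟩
  obtain ⟨φ₁, r₁, hsq₁, ⟨e⟩⟩ := hbc B ψ hu X' f' r hsq
  letI : X₁.Over (Spec (CommRingCat.of A₁)) := ⟨f₁⟩
  haveI : IsProper (X₁ ↘ Spec (CommRingCat.of A₁)) := hprop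
  letI : X'.Over (Spec (CommRingCat.of B)) := ⟨f'⟩
  haveI : F₁.IsQuasicoherent := hcoh.1
  obtain ⟨D⟩ := nonempty_mdata A₁ X₁ F₁ hcoh hflat
  haveI := D.fin
  have hPS₁ : PresSurj (CZ A₁ F₁ D.U) 0 :=
    presSurj_CZ_of_fibre_vanishing A₁ X₁ F₁ D
      (fun y₁ => hvan y₁ 1 (Finset.mem_singleton_self 1))
  have hPS := presSurj_baseChange φ₁ r₁ F₁ D.U hsq₁ D.haff hPS₁
  haveI : IsAffineHom r₁ := isAffineHom_of_sq φ₁ r₁ hsq₁
  have haff' := isAffineOpen_Wp r₁ D.U D.haff
  have hcov' := iSup_Up r₁ D.U D.hcov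
  haveI : (Fp r₁ F₁).IsQuasicoherent := Groth.Agent.Lead.PB.isQuasicoherent_pullback _ _
  have hfl' : FlatMod.IsFlatOver (X' ↘ Spec (CommRingCat.of B)) (Fp r₁ F₁) := fun z =>
    Groth.Agent.Lead.FB.flat_baseChange hsq₁ F₁ z (hflat _)
  have hW := flatW_of_presSurj B (Fp r₁ F₁) (Up r₁ D.U) hfl' haff' hPS
  exact ⟨D.ι, D.fin, Up r₁ D.U, hcov', haff', flatW_of_iso B (Up r₁ D.U) (e ≪≫ eG) hW⟩

end Point

end Groth.Agent.Helper7.BC0
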