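import Mathlib
import Groth.Agent.Lib.Helper7.BC0.Bridge
import Groth.Agent.Lib.Helper7.BC0.SpecFlat
import Groth.Agent.Lib.Helper7.CohBC.Proj
import Groth.Agent.Lib.Helper4.ChartSq1
import Groth.Agent.Lib.Helper1.VAcE

set_option linter.style.haveILetI false
set_option linter.unusedVariables false
set_option linter.unusedSectionVars false
set_option autoImplicit false
set_option backward.isDefEq.respectTransparency.types false
set_option backward.isDefEq.respectTransparency false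
set_option synthInstance.maxHeartbeats 400000
set_option maxHeartbeats 1600000

universe u

/-! helper7: degree-0 base change iso and finite local freeness of the direct image from H1 fibre vanishing (flat proper fp) -/

open CategoryTheory CategoryTheory.Limits AlgebraicGeometry Opposite TopologicalSpace
open Groth.Agent.Helper1
open Groth.Agent.Helper1.RpushLoc
open Groth.Agent.Lib.Helper4.BaseChgRing1
open Groth.Agent.Lib.Helper4.TenSec2
open Groth.Agent.Lib.Helper4.LocCech1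
open Groth.Agent.Lib.Helper4.CechTen1
open Groth.Agent.Lead.BCU Groth.Agent.Lead.FBC

namespace Groth.Agent.Helper7.BC0

section Top

variable {X S : Scheme.{u}} (f : X ⟶ S) {V : S.Opens} (hV : IsAffineOpen V)
  [ov : (↑(f ⁻¹ᵁ V) : Scheme.{u}).Over (Spec (CommRingCat.of Γ(S, V)))]
  (hov : ((↑(f ⁻¹ᵁ V) : Scheme.{u}) ↘ Spec (CommRingCat.of Γ(S, V))) = strMap f hV)
  (F : X.Modules)

attribute [local instance] secMod

include hov in
/-- global sections of the restriction to `f⁻¹ V`, over the coordinate ring of `V`, are the sections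
of the direct image over `V` -/
noncomputable def topEquiv :
    Γ(F.restrict (f ⁻¹ᵁ V).ι, ⊤) ≃ₗ[Γ(S, V)] Γ((Scheme.Modules.pushforward f).obj F, V) where
  toFun s := res F ((f ⁻¹ᵁ V).ι_image_top).ge (show Γ(F, (f ⁻¹ᵁ V).ι ''ᵁ ⊤) from s)
  invFun t := res F ((f ⁻¹ᵁ V).ι_image_top).le (show Γ(F, f ⁻¹ᵁ V) from t)
  map_add' x y := res_add F _ _ _
  map_smul' r s := by
    rw [smul_bridge f hV hov F ⊤ r s]
    change res F ((f ⁻¹ᵁ V).ι_image_top).ge
        ((f.appLE V ((f ⁻¹ᵁ V).ι ''ᵁ ⊤) ((f ⁻¹ᵁ V).ι_image_le ⊤)).hom r •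
          (show Γ(F, (f ⁻¹ᵁ V).ι ''ᵁ ⊤) from s)) =
      (show Γ(F, f ⁻¹ᵁ V) from ((f.app V).hom r : Γ(X, f ⁻¹ᵁ V)) •
        (show Γ(F, f ⁻¹ᵁ V) from res F ((f ⁻¹ᵁ V).ι_image_top).ge
          (show Γ(F, (f ⁻¹ᵁ V).ι ''ᵁ ⊤) from s)))
    rw [res_smul']
    congr 1
    have h1 := Scheme.Hom.appLE_map f ((f ⁻¹ᵁ V).ι_image_le ⊤)
      (homOfLE ((f ⁻¹ᵁ V).ι_image_top).ge).op
    rw [Scheme.Hom.app_eq_appLE]
    exact congrArg (fun φ => φ.hom r) h1
  left_inv s := (res_res F _ _ _).trans (Groth.Agent.Helper1.QcCech.res_self F _ _)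
  right_inv t := (res_res F _ _ _).trans (Groth.Agent.Helper1.QcCech.res_self F _ _)

end Top

section Global

variable {X S : Scheme.{u}} (f : X ⟶ S) [IsProper f] [LocallyOfFinitePresentation f]
  (F : X.Modules) [F.IsQuasicoherent] (hfp : CohB1.IsFP F) (hfl : FlatMod.IsFlatOver f F)

include hfp hfl in
/-- **the base change comparison near a point with vanishing `H^1` of the fibre**: such a point has
an affine open neighbourhood `V₀` such that for every affine open `V ⊆ V₀`, every cartesian square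
and every affine open `V'` over `V`, the comparison `Γ(S', V') ⊗ Γ(F, f⁻¹ V) → Γ(g'^* F, f'⁻¹ V')`
is bijective. -/
theorem exists_affine_nhd_bijAt (s : S) (h1 : Subsingleton (CohIII.fiberH f F s 1)) :
    ∃ V₀ : S.Opens, IsAffineOpen V₀ ∧ s ∈ V₀ ∧ ∀ V : S.Opens, IsAffineOpen V → V ≤ V₀ →
      ∀ {X' S' : Scheme.{u}} (g : S' ⟶ S) (g' : X' ⟶ X) (f' : X' ⟶ S')
        (h : IsPullback g' f' f g) (V' : Set.Iic (g ⁻¹ᵁ V)), IsAffineOpen V'.1 →
        BijAt f g g' f' F V' h ⟨f ⁻¹ᵁ V, (le_refl (f ⁻¹ᵁ V) : f ⁻¹ᵁ V ≤ f ⁻¹ᵁ V)⟩ := by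
  obtain ⟨_, ⟨V₁, hV₁, rfl⟩, hyV₁, -⟩ :=
    S.isBasis_affineOpens.exists_subset_of_mem_open (Set.mem_univ s) isOpen_univ
  have hsq := Groth.Agent.Lib.Helper4.ChartSq1.isPullback_chart f hV₁
  haveI : IsProper (strMap f hV₁) :=
    MorphismProperty.of_isPullback (P := @IsProper) hsq inferInstance
  haveI : LocallyOfFinitePresentation (strMap f hV₁) :=
    MorphismProperty.of_isPullback (P := @LocallyOfFinitePresentation) hsq inferInstance
  have hF' : CohB1.IsFP ((Scheme.Modules.pullback (f ⁻¹ᵁ V₁).ι).obj F) :=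
    Groth.Agent.Lead.LimZ.isFP_pullback _ F hfp
  haveI : ((Scheme.Modules.pullback (f ⁻¹ᵁ V₁).ι).obj F).IsQuasicoherent :=
    (Groth.Agent.Helper7.ConsMod.isCoh_of_isFP _ hF').1
  have hfl' : FlatMod.IsFlatOver (strMap f hV₁)
      ((Scheme.Modules.pullback (f ⁻¹ᵁ V₁).ι).obj F) := fun z =>
    Groth.Agent.Lead.FB.flat_baseChange hsq F z (hfl _)
  have hr : s ∈ Set.range hV₁.fromSpec := by
    rw [hV₁.range_fromSpec]
    exact hyV₁
  obtain ⟨y₁, rfl⟩ := hr
  have h1' : Subsingleton (CohIII.fiberH (strMap f hV₁)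
      ((Scheme.Modules.pullback (f ⁻¹ᵁ V₁).ι).obj F) y₁ 1) :=
    (Groth.Agent.Helper7.CohBC.subsingleton_fiberH_baseChange f hV₁.fromSpec (f ⁻¹ᵁ V₁).ι _ hsq
      F y₁ 1).2 h1
  obtain ⟨g₀, hg₀, hflat⟩ := exists_unit_flatW Γ(S, V₁) (strMap f hV₁) _ hF' hfl' y₁ h1'
  refine ⟨S.basicOpen g₀, hV₁.basicOpen g₀, ?_, fun W hW hle => ?_⟩
  · have h4 : y₁ ∈ hV₁.fromSpec ⁻¹ᵁ S.basicOpen g₀ := by
      rw [hV₁.fromSpec_preimage_basicOpen]
      exact hg₀
    exact h4
  · intro X' S' g g' f' h V' hV'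
    have hleW : W ≤ V₁ := hle.trans (S.basicOpen_le g₀)
    have hs := isPullback_strMap f hV₁ hW hleW
    have hu : IsUnit ((S.presheaf.map (homOfLE hleW).op).hom g₀) := by
      have h1 : IsUnit ((S.presheaf.map (homOfLE (S.basicOpen_le g₀)).op).hom g₀) :=
        S.toRingedSpace.isUnit_res_basicOpen g₀
      have hcomp : S.presheaf.map (homOfLE hleW).op =
          S.presheaf.map (homOfLE (S.basicOpen_le g₀)).op ≫ S.presheaf.map (homOfLE hle).op := by
        rw [← Functor.map_comp]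
        congr 1
      rw [hcomp, CommRingCat.hom_comp, RingHom.comp_apply]
      exact h1.map _
    letI : (↑(f ⁻¹ᵁ W) : Scheme.{u}).Over (Spec (CommRingCat.of Γ(S, W))) := ⟨strMap f hW⟩
    let e : (Scheme.Modules.pullback (X.homOfLE (f.preimage_mono hleW))).obj
        ((Scheme.Modules.pullback (f ⁻¹ᵁ V₁).ι).obj F) ≅ F.restrict (f ⁻¹ᵁ W).ι :=
      (Groth.Agent.Helper7.ConsMod.pullbackFacIso (X.homOfLE_ι (f.preimage_mono hleW)) F).symm ≪≫
        (Scheme.Modules.restrictFunctorIsoPullback _).symm.app F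
    obtain ⟨ι₀, hfin, U', hcovU, haffU, hflW⟩ := hflat Γ(S, W)
      (S.presheaf.map (homOfLE hleW).op).hom hu _ (strMap f hW)
      (X.homOfLE (f.preimage_mono hleW)) hs (F.restrict (f ⁻¹ᵁ W).ι) e
    haveI := hfin
    haveI : (F.restrict (f ⁻¹ᵁ W).ι).IsQuasicoherent := inferInstance
    have hflr : FlatMod.IsFlatOver (strMap f hW) (F.restrict (f ⁻¹ᵁ W).ι) :=
      Groth.Agent.Lib.Helper4.ChartSq1.isFlatOver_restrict f hW F hfl
    exact bijAt_of_flatW f hW rfl F U' g g' f' h hcovU haffU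
      (flat_Co Γ(S, W) (F.restrict (f ⁻¹ᵁ W).ι) U' hflr haffU 0)
      (flat_Co Γ(S, W) (F.restrict (f ⁻¹ᵁ W).ι) U' hflr haffU 1) hflW V' hV'

include hfp hfl in
/-- **cohomology and base change in degree zero**: for a proper morphism of finite presentation
and a finitely presented module flat over the base, the degree-zero base change map of a
cartesian square is an isomorphism as soon as `H^1` of the fibres over the image of the base
change vanishes. -/
theorem isIso_bc0_of_fibre_vanishing {X' S' : Scheme.{u}} (g : S' ⟶ S) (g' : X' ⟶ X)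
    (f' : X' ⟶ S') (h : IsPullback g' f' f g)
    (hv : ∀ x : S', Subsingleton (CohIII.fiberH f F (g x) 1)) :
    IsIso (CohBC.bc0 f g f' g' h.w F) := by
  apply isIso_bc0_of_local f g g' f' h F
  intro x
  obtain ⟨V₀, hV₀, hxV₀, hb⟩ := exists_affine_nhd_bijAt f F hfp hfl (g x) (hv x)
  exact ⟨V₀, hV₀, hxV₀, fun V' hV' => hb V₀ hV₀ le_rfl g g' f' h V' hV'⟩

include hfp hfl in
/-- vanishing of `H^1` of the fibre at `y` makes the sections of the direct image over all small
affine opens around `y` finite projective modules (no derived functors involved). -/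
theorem exists_affine_nhd_push_finite_projective (y : S)
    (h1 : Subsingleton (CohIII.fiberH f F y 1)) :
    ∃ V : S.Opens, IsAffineOpen V ∧ y ∈ V ∧ ∀ W : S.Opens, IsAffineOpen W → W ≤ V →
      Module.Finite Γ(S, W) Γ((Scheme.Modules.pushforward f).obj F, W) ∧
        Module.Projective Γ(S, W) Γ((Scheme.Modules.pushforward f).obj F, W) := by
  obtain ⟨_, ⟨V₁, hV₁, rfl⟩, hyV₁, -⟩ :=
    S.isBasis_affineOpens.exists_subset_of_mem_open (Set.mem_univ y) isOpen_univ
  have hsq := Groth.Agent.Lib.Helper4.ChartSq1.isPullback_chart f hV₁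
  haveI : IsProper (strMap f hV₁) :=
    MorphismProperty.of_isPullback (P := @IsProper) hsq inferInstance
  haveI : LocallyOfFinitePresentation (strMap f hV₁) :=
    MorphismProperty.of_isPullback (P := @LocallyOfFinitePresentation) hsq inferInstance
  have hF' : CohB1.IsFP ((Scheme.Modules.pullback (f ⁻¹ᵁ V₁).ι).obj F) :=
    Groth.Agent.Lead.LimZ.isFP_pullback _ F hfp
  haveI : ((Scheme.Modules.pullback (f ⁻¹ᵁ V₁).ι).obj F).IsQuasicoherent :=
    (Groth.Agent.Helper7.ConsMod.isCoh_of_isFP _ hF').1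
  have hfl' : FlatMod.IsFlatOver (strMap f hV₁)
      ((Scheme.Modules.pullback (f ⁻¹ᵁ V₁).ι).obj F) := fun z =>
    Groth.Agent.Lead.FB.flat_baseChange hsq F z (hfl _)
  have hr : y ∈ Set.range hV₁.fromSpec := by
    rw [hV₁.range_fromSpec]
    exact hyV₁
  obtain ⟨y₁, rfl⟩ := hr
  have h1' : Subsingleton (CohIII.fiberH (strMap f hV₁)
      ((Scheme.Modules.pullback (f ⁻¹ᵁ V₁).ι).obj F) y₁ (0 + 1)) :=
    (Groth.Agent.Helper7.CohBC.subsingleton_fiberH_baseChange f hV₁.fromSpec (f ⁻¹ᵁ V₁).ι _ hsq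
      F y₁ 1).2 h1
  obtain ⟨g₀, hg₀, hfin⟩ := Groth.Agent.Helper7.CohBC.exists_unit_finite_projective_affine
    Γ(S, V₁) (strMap f hV₁) _ hF' hfl' y₁ 0 h1' (fun i hi => absurd hi (by omega))
  refine ⟨S.basicOpen g₀, hV₁.basicOpen g₀, ?_, fun W hW hle => ?_⟩
  · have h4 : y₁ ∈ hV₁.fromSpec ⁻¹ᵁ S.basicOpen g₀ := by
      rw [hV₁.fromSpec_preimage_basicOpen]
      exact hg₀
    exact h4
  · have hleW : W ≤ V₁ := hle.trans (S.basicOpen_le g₀)
    have hs := isPullback_strMap f hV₁ hW hleW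
    have hu : IsUnit ((S.presheaf.map (homOfLE hleW).op).hom g₀) := by
      have h1 : IsUnit ((S.presheaf.map (homOfLE (S.basicOpen_le g₀)).op).hom g₀) :=
        S.toRingedSpace.isUnit_res_basicOpen g₀
      have hcomp : S.presheaf.map (homOfLE hleW).op =
          S.presheaf.map (homOfLE (S.basicOpen_le g₀)).op ≫ S.presheaf.map (homOfLE hle).op := by
        rw [← Functor.map_comp]
        congr 1
      rw [hcomp, CommRingCat.hom_comp, RingHom.comp_apply]
      exact h1.map _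
    letI : (↑(f ⁻¹ᵁ W) : Scheme.{u}).Over (Spec (CommRingCat.of Γ(S, W))) := ⟨strMap f hW⟩
    obtain ⟨k1, k2⟩ := hfin Γ(S, W) (S.presheaf.map (homOfLE hleW).op).hom hu _
      (strMap f hW) (X.homOfLE (f.preimage_mono hleW)) hs
    let e : (Scheme.Modules.pullback (X.homOfLE (f.preimage_mono hleW))).obj
        ((Scheme.Modules.pullback (f ⁻¹ᵁ V₁).ι).obj F) ≅ F.restrict (f ⁻¹ᵁ W).ι :=
      (Groth.Agent.Helper7.ConsMod.pullbackFacIso (X.homOfLE_ι (f.preimage_mono hleW)) F).symm ≪≫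
        (Scheme.Modules.restrictFunctorIsoPullback _).symm.app F
    have e' := Groth.Agent.Helper3.FlatTen.HHcongr Γ(S, W) e 0
    have e2 := Groth.Agent.Helper1.VAc.hh0Equiv Γ(S, W) (↑(f ⁻¹ᵁ W) : Scheme.{u})
      (F.restrict (f ⁻¹ᵁ W).ι)
    have e3 := topEquiv f hW rfl F
    haveI := k1
    haveI := k2
    exact ⟨Module.Finite.equiv ((e'.trans e2).trans e3),
      Module.Projective.of_equiv ((e'.trans e2).trans e3)⟩

include hfp hfl in
/-- vanishing of `H^1` of all fibres makes the direct image finite locally free -/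
theorem isFinLocFree_push_of_fibre_vanishing
    (h1 : ∀ y : S, Subsingleton (CohIII.fiberH f F y 1)) :
    FlatMod.IsFinLocFree ((Scheme.Modules.pushforward f).obj F) := by
  haveI : ((Scheme.Modules.pushforward f).obj F).IsQuasicoherent :=
    Groth.Agent.Helper1.PushQc.isQuasicoherent_pushforward f F
  apply Groth.Agent.Lead.FLF.isFinLocFree_of_affine_nhds
  intro y
  obtain ⟨V, hV, hyV, h⟩ := exists_affine_nhd_push_finite_projective f F hfp hfl y (h1 y)
  exact ⟨V, hV, hyV, h V hV le_rfl⟩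

end Global

end Groth.Agent.Helper7.BC0
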