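import Mathlib
import Groth.Agent.Lib.Helper7.BC0.Main
import Groth.Agent.S0458

set_option linter.style.haveILetI false
set_option linter.unusedVariables false
set_option linter.unusedSectionVars false
set_option autoImplicit false
set_option backward.isDefEq.respectTransparency.types false
set_option backward.isDefEq.respectTransparency false
set_option synthInstance.maxHeartbeats 400000
set_option maxHeartbeats 1600000

universe u

/-! helper7: openness of the locus of vanishing higher fibre cohomology; local criteria for vanishing and finite local freeness of restrictions; direct image and base change over that locus -/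

open CategoryTheory CategoryTheory.Limits AlgebraicGeometry Opposite TopologicalSpace
open Groth.Agent.Helper1
open Groth.Agent.Helper1.RpushLoc

namespace Groth.Agent.Helper7.BC0

attribute [local instance] Groth.Agent.Lib.Helper4.TenSec2.secMod

section Local

open Scheme.Modules

/-- a module whose sections over all small affine opens around each point of `U` vanish restricts
to zero on `U`. -/
theorem isZero_restrict_of_local {Y : Scheme.{u}} (M : Y.Modules) (U : Y.Opens)
    (h : ∀ y ∈ U, ∃ V : Y.Opens, y ∈ V ∧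
      ∀ W : Y.Opens, IsAffineOpen W → W ≤ V → Subsingleton Γ(M, W)) :
    IsZero (M.restrict U.ι) := by
  apply Groth.Agent.Helper7.RelH1.isZero_of_basis_sections _
    {W' : (↑U : Scheme.{u}).Opens | IsAffineOpen W' ∧ Subsingleton Γ(M.restrict U.ι, W')}
  · rw [Opens.isBasis_iff_nbhd]
    intro O x hxO
    obtain ⟨V, hyV, hV⟩ := h (U.ι x) x.2
    have hx' : x ∈ O ⊓ U.ι ⁻¹ᵁ V := ⟨hxO, hyV⟩
    obtain ⟨W', hW', hxW', hle⟩ :=
      (Opens.isBasis_iff_nbhd.mp (↑U : Scheme.{u}).isBasis_affineOpens) hx'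
    refine ⟨W', ⟨hW', ?_⟩, hxW', hle.trans inf_le_left⟩
    refine hV (U.ι ''ᵁ W') (IsAffineOpen.image_of_isOpenImmersion hW' U.ι) ?_
    intro t ht
    obtain ⟨z, hz, rfl⟩ := ht
    exact (hle hz).2
  · intro W' hW'
    exact hW'.2

/-- a quasi-coherent module whose sections over some affine open neighbourhood inside `U` of each
point of `U` are finite projective restricts to a finite locally free module on `U`. -/
theorem isFinLocFree_restrict_of_local {Y : Scheme.{u}} (M : Y.Modules) [M.IsQuasicoherent]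
    (U : Y.Opens)
    (h : ∀ y ∈ U, ∃ W : Y.Opens, IsAffineOpen W ∧ y ∈ W ∧ W ≤ U ∧
      Module.Finite Γ(Y, W) Γ(M, W) ∧ Module.Projective Γ(Y, W) Γ(M, W)) :
    FlatMod.IsFinLocFree (M.restrict U.ι) := by
  apply Groth.Agent.Lead.FLF.isFinLocFree_of_charts
  intro x
  obtain ⟨W, hW, hxW, hWU, h1, h2⟩ := h (U.ι x) x.2
  have hrange : Set.range hW.fromSpec ⊆ Set.range U.ι := by
    rw [hW.range_fromSpec, Scheme.Opens.range_ι]
    exact hWU
  obtain ⟨j, hj⟩ : ∃ j : Spec Γ(Y, W) ⟶ (↑U : Scheme.{u}), j ≫ U.ι = hW.fromSpec :=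
    ⟨IsOpenImmersion.lift U.ι hW.fromSpec hrange, IsOpenImmersion.lift_fac _ _ _⟩
  haveI : IsOpenImmersion (j ≫ U.ι) := by rw [hj]; infer_instance
  haveI : IsOpenImmersion j := IsOpenImmersion.of_comp j U.ι
  refine ⟨_, j, inferInstance, ?_, ?_⟩
  · have hx : U.ι x ∈ Set.range hW.fromSpec := by
      rw [hW.range_fromSpec]
      exact hxW
    obtain ⟨z, hz⟩ := hx
    refine ⟨z, ?_⟩
    apply U.ι.isOpenEmbedding.injective
    rw [← hz, ← hj]
    rfl
  · have e : (M.restrict U.ι).restrict j ≅ M.restrict hW.fromSpec :=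
      ((restrictFunctorComp j U.ι).app M).symm ≪≫ (restrictFunctorCongr hj).app M
    apply Groth.Agent.Lead.FLF.isFinLocFree_of_iso e.symm
    rw [Groth.Agent.Lead.FLF.isFinLocFree_spec_iff]
    exact ⟨Module.Finite.equiv (Groth.Agent.Lead.FLF.sectionsLinearEquiv hW M).symm,
      Module.Projective.of_equiv (Groth.Agent.Lead.FLF.sectionsLinearEquiv hW M).symm⟩

end Local

section Fibre

/-- the cohomology of a fibre of a quasi-compact morphism locally of finite type vanishes above
the dimension of the fibre -/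
theorem subsingleton_fiberH_of_dim_lt {X S : Scheme.{u}} (f : X ⟶ S) [LocallyOfFiniteType f]
    [QuasiCompact f] (F : X.Modules) (s : S) (d : ℕ)
    (hd : topologicalKrullDim ↥(f.fiber s) ≤ d) (j : ℕ) (hj : d < j) :
    Subsingleton (CohIII.fiberH f F s j) := by
  haveI : LocallyOfFiniteType (f.fiberToSpecResidueField s) :=
    MorphismProperty.pullback_snd (P := @LocallyOfFiniteType) _ _ inferInstance
  haveI : IsNoetherian (f.fiber s) :=
    { __ := LocallyOfFiniteType.isLocallyNoetherian (f.fiberToSpecResidueField s) }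
  haveI : NoetherianSpace ↑((f.fiber s).toTopCat) := (inferInstance : NoetherianSpace (f.fiber s))
  exact Groth.Agent.S0458.result (X := (f.fiber s).toTopCat) d hd (Coh.toAb _) j hj

/-- vanishing of the fibre cohomology in finitely many degrees at a point spreads to an open
neighbourhood of the point -/
theorem exists_open_nhd_fibre_vanishing {X Y : Scheme.{u}} (π : X ⟶ Y) [IsProper π]
    [LocallyOfFinitePresentation π] (F : X.Modules) [F.IsQuasicoherent] (hfp : CohB1.IsFP F)
    (hfl : FlatMod.IsFlatOver π F) (I : Finset ℕ) (y : Y)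
    (h0 : ∀ i ∈ I, Subsingleton (CohIII.fiberH π F y i)) :
    ∃ V : Y.Opens, y ∈ V ∧ ∀ y' ∈ V, ∀ i ∈ I, Subsingleton (CohIII.fiberH π F y' i) := by
  obtain ⟨_, ⟨V₁, hV₁, rfl⟩, hyV₁, -⟩ :=
    Y.isBasis_affineOpens.exists_subset_of_mem_open (Set.mem_univ y) isOpen_univ
  have hsq := Groth.Agent.Lib.Helper4.ChartSq1.isPullback_chart π hV₁
  haveI : IsProper (strMap π hV₁) :=
    MorphismProperty.of_isPullback (P := @IsProper) hsq inferInstance
  haveI : LocallyOfFinitePresentation (strMap π hV₁) :=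
    MorphismProperty.of_isPullback (P := @LocallyOfFinitePresentation) hsq inferInstance
  have hF' : CohB1.IsFP ((Scheme.Modules.pullback (π ⁻¹ᵁ V₁).ι).obj F) :=
    Groth.Agent.Lead.LimZ.isFP_pullback _ F hfp
  haveI : ((Scheme.Modules.pullback (π ⁻¹ᵁ V₁).ι).obj F).IsQuasicoherent :=
    (Groth.Agent.Helper7.ConsMod.isCoh_of_isFP _ hF').1
  have hfl' : FlatMod.IsFlatOver (strMap π hV₁)
      ((Scheme.Modules.pullback (π ⁻¹ᵁ V₁).ι).obj F) := fun z =>
    Groth.Agent.Lead.FB.flat_baseChange hsq F z (hfl _)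
  have hr : y ∈ Set.range hV₁.fromSpec := by
    rw [hV₁.range_fromSpec]
    exact hyV₁
  obtain ⟨y₁, rfl⟩ := hr
  have h1 : ∀ i ∈ I, Subsingleton (CohIII.fiberH (strMap π hV₁)
      ((Scheme.Modules.pullback (π ⁻¹ᵁ V₁).ι).obj F) y₁ i) := fun i hi =>
    (Groth.Agent.Helper7.CohBC.subsingleton_fiberH_baseChange π hV₁.fromSpec (π ⁻¹ᵁ V₁).ι _ hsq
      F y₁ i).2 (h0 i hi)
  obtain ⟨g, A₁, _, _, X₁, f₁, F₁, hg, hprop, hcoh, hflat, hvan, hbc⟩ :=
    Groth.Agent.Helper7.CohBC.exists_noeth_model_vanishing Γ(Y, V₁) (strMap π hV₁) _ hF' hfl'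
      y₁ I h1
  have hV : IsAffineOpen (Y.basicOpen g) := hV₁.basicOpen g
  have hle : Y.basicOpen g ≤ V₁ := Y.basicOpen_le g
  refine ⟨Y.basicOpen g, ?_, ?_⟩
  · have h4 : y₁ ∈ hV₁.fromSpec ⁻¹ᵁ Y.basicOpen g := by
      rw [hV₁.fromSpec_preimage_basicOpen]
      exact hg
    exact h4
  · intro y' hy' i hi
    have hs := isPullback_strMap π hV₁ hV hle
    have hu : IsUnit ((Y.presheaf.map (homOfLE hle).op).hom g) :=
      Y.toRingedSpace.isUnit_res_basicOpen g
    obtain ⟨φ₁, r₁, hsq₁, ⟨e⟩⟩ := hbc Γ(Y, Y.basicOpen g)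
      (Y.presheaf.map (homOfLE hle).op).hom hu _
      (strMap π hV) (X.homOfLE (π.preimage_mono hle)) hs
    have hr' : y' ∈ Set.range hV.fromSpec := by
      rw [hV.range_fromSpec]
      exact hy'
    obtain ⟨y₂, rfl⟩ := hr'
    have hsqV := Groth.Agent.Lib.Helper4.ChartSq1.isPullback_chart π hV
    haveI := hprop
    haveI : F₁.IsQuasicoherent := hcoh.1
    let e2 : (Scheme.Modules.pullback (X.homOfLE (π.preimage_mono hle))).obj
        ((Scheme.Modules.pullback (π ⁻¹ᵁ V₁).ι).obj F) ≅
        (Scheme.Modules.pullback (π ⁻¹ᵁ Y.basicOpen g).ι).obj F :=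
      (Groth.Agent.Helper7.ConsMod.pullbackFacIso (X.homOfLE_ι (π.preimage_mono hle)) F).symm
    refine (Groth.Agent.Helper7.CohBC.subsingleton_fiberH_baseChange π hV.fromSpec
      (π ⁻¹ᵁ Y.basicOpen g).ι _ hsqV F y₂ i).1 ?_
    refine (Groth.Agent.Helper7.CohBC.subsingleton_fiberH_congr (strMap π hV) (e ≪≫ e2) y₂ i).1 ?_
    refine (Groth.Agent.Helper7.CohBC.subsingleton_fiberH_baseChange f₁
      (Spec.map (CommRingCat.ofHom φ₁)) r₁ (strMap π hV) hsq₁ F₁ y₂ i).2 ?_
    exact hvan _ i hi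

end Fibre

section Main

variable {X S : Scheme.{u}} (f : X ⟶ S) [IsProper f] [LocallyOfFinitePresentation f]
  [HasInjectiveResolutions X.Modules]
  (F : X.Modules) (hF : CohB1.IsFP F) (hfl : FlatMod.IsFlatOver f F)

include hF hfl in
/-- the locus where all higher cohomology of the fibres vanishes is open, and over it the higher
direct images vanish, the direct image is finite locally free and commutes with base change -/
theorem open_locus_higher_fibre_vanishing
    (d : ℕ) (hd : ∀ s : S, topologicalKrullDim ↥(f.fiber s) ≤ d) :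
    IsOpen {s : S | ∀ j : ℕ, 1 ≤ j → Subsingleton (CohIII.fiberH f F s j)} ∧
      ∀ U : S.Opens, (U : Set S) ⊆
          {s : S | ∀ j : ℕ, 1 ≤ j → Subsingleton (CohIII.fiberH f F s j)} →
        (∀ j : ℕ, 1 ≤ j → IsZero (((Coh.Rpush f j).obj F).restrict U.ι)) ∧
          FlatMod.IsFinLocFree (((Coh.push f).obj F).restrict U.ι) ∧
            ∀ (T X' : Scheme.{u}) (g : T ⟶ S) (f' : X' ⟶ T) (g' : X' ⟶ X)
              (hsq : IsPullback g' f' f g),
              Set.range g.base ⊆ (U : Set S) → IsIso (CohBC.bc0 f g f' g' hsq.w F) := by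
  haveI : F.IsQuasicoherent := (Groth.Agent.Helper7.ConsMod.isCoh_of_isFP F hF).1
  refine ⟨?_, fun U hU => ⟨fun j hj => ?_, ?_, ?_⟩⟩
  · rw [isOpen_iff_forall_mem_open]
    intro s hs
    obtain ⟨V, hsV, hV⟩ := exists_open_nhd_fibre_vanishing f F hF hfl (Finset.Icc 1 d) s
      (fun i hi => hs i (Finset.mem_Icc.1 hi).1)
    refine ⟨V.1, ?_, V.2, hsV⟩
    intro s' hs' j hj
    by_cases hjd : j ≤ d
    · exact hV s' hs' j (Finset.mem_Icc.2 ⟨hj, hjd⟩)
    · exact subsingleton_fiberH_of_dim_lt f F s' d (hd s') j (by omega)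
  · apply isZero_restrict_of_local
    intro y hy
    obtain ⟨V, hV, hyV, h⟩ :=
      Groth.Agent.Helper7.CohBC.exists_affine_nhd_sections_subsingleton f F hF hfl j y
        (hU hy j hj)
    exact ⟨V, hyV, h⟩
  · haveI : ((Scheme.Modules.pushforward f).obj F).IsQuasicoherent :=
      Groth.Agent.Helper1.PushQc.isQuasicoherent_pushforward f F
    apply isFinLocFree_restrict_of_local
    intro y hy
    obtain ⟨V, hV, hyV, h⟩ := exists_affine_nhd_push_finite_projective f F hF hfl y
      (hU hy 1 le_rfl)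
    obtain ⟨W, hW, hyW, hle⟩ := (Opens.isBasis_iff_nbhd.mp S.isBasis_affineOpens)
      (show y ∈ U ⊓ V from ⟨hy, hyV⟩)
    obtain ⟨k1, k2⟩ := h W hW (hle.trans inf_le_right)
    exact ⟨W, hW, hyW, hle.trans inf_le_left, k1, k2⟩
  · intro T X' g f' g' hsq hr
    exact isIso_bc0_of_fibre_vanishing f F hF hfl g g' f' hsq
      (fun x => hU (hr ⟨x, rfl⟩) 1 le_rfl)

end Main

end Groth.Agent.Helper7.BC0
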